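import Groth.Agent.EtGlue7.Basic
import Groth.Agent.EtGlue7.Alg

/-!
# Glueability is local for flat coverings of algebras
-/

noncomputable section

namespace Groth.Agent.EtGlue7

universe u

open TensorProduct

attribute [local instance] Algebra.TensorProduct.rightAlgebra

variable {R R' : Type u} [CommRing R] [CommRing R'] [Algebra R R'] {f : R}

/-- Glueability ascends along flat algebras. -/
theorem isGlueable_of_flat (hRR' : EtGlue.IsGlueingPair R R' f) (A B : Type u) [CommRing A] [Algebra R A]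
    [CommRing B] [Algebra R B] [Algebra A B] [IsScalarTower R A B] [Module.Flat A B]
    (hA : EtGlue.IsGlueable R R' f A) : EtGlue.IsGlueable R R' f B := by
  refine ((isGlueable_iff hRR'.1 B).2 hRR').2 fun b hb hb' => ?_
  obtain ⟨n, hn⟩ := hb
  let μ : A →ₗ[A] A := LinearMap.mulLeft A (algebraMap R A f ^ n)
  let T : Submodule A A := LinearMap.ker μ
  have hex : Function.Exact (T.subtype.rTensor B) (μ.rTensor B) :=
    Module.Flat.rTensor_exact B (LinearMap.exact_subtype_ker_map μ)
  have h0 : μ.rTensor B ((1 : A) ⊗ₜ[A] b) = 0 := by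
    apply (TensorProduct.lid A B).injective
    rw [LinearMap.rTensor_tmul, TensorProduct.lid_tmul, map_zero]
    show (algebraMap R A f ^ n * 1) • b = 0
    rw [mul_one, ← map_pow, algebraMap_smul]
    exact hn
  obtain ⟨z, hz⟩ := (hex _).1 h0
  let φ : T →ₗ[A] R' ⊗[R] A :=
    { toFun := fun t => (1 : R') ⊗ₜ[R] (t : A)
      map_add' := fun a b => by simp [tmul_add]
      map_smul' := fun a t => by
        show (1 : R') ⊗ₜ[R] (a * (t : A)) = a • ((1 : R') ⊗ₜ[R] (t : A))
        rw [one_tmul_smul, Algebra.TensorProduct.tmul_mul_tmul, one_mul] }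
  have hφ : Function.Injective φ := by
    rw [injective_iff_map_eq_zero]
    intro t ht
    refine Subtype.ext ((torsion_of_isGlueable A hA).1 (t : A) ⟨n, ?_⟩ ht)
    have := t.2
    rw [LinearMap.mem_ker, LinearMap.mulLeft_apply, ← map_pow, ← Algebra.smul_def] at this
    exact this
  have key : ∀ z : T ⊗[A] B, tensorA R R' A B (φ.rTensor B z) =
      (1 : R') ⊗ₜ[R] (TensorProduct.lid A B (T.subtype.rTensor B z)) := by
    intro z
    induction z with
    | zero => simp
    | tmul t x => simp [φ, tensorA_tmul]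
    | add a c ha hc => simp only [map_add, ha, hc, tmul_add]
  have hz0 : φ.rTensor B z = 0 := by
    apply (tensorA R R' A B).injective
    rw [key, hz, TensorProduct.lid_tmul, one_smul, hb', map_zero]
  have := Module.Flat.rTensor_preserves_injective_linearMap (M := B) φ hφ (hz0.trans (map_zero _).symm)
  rw [this, map_zero] at hz
  have e := congrArg (TensorProduct.lid A B) hz
  rwa [TensorProduct.lid_tmul, one_smul, map_zero, eq_comm] at e

/-- Glueability descends along a jointly injective family of algebra maps. -/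
theorem isGlueable_of_injective (hRR' : EtGlue.IsGlueingPair R R' f) (A : Type u) [CommRing A] [Algebra R A]
    {ι : Type*} (B : ι → Type u) [∀ i, CommRing (B i)] [∀ i, Algebra R (B i)] (φ : ∀ i, A →ₐ[R] B i)
    (hB : ∀ i, EtGlue.IsGlueable R R' f (B i)) (h : ∀ a : A, (∀ i, φ i a = 0) → a = 0) :
    EtGlue.IsGlueable R R' f A := by
  refine ((isGlueable_iff hRR'.1 A).2 hRR').2 fun a ⟨n, hn⟩ ha' => h a fun i => ?_
  refine (torsion_of_isGlueable (B i) (hB i)).1 _ ⟨n, by rw [← map_smul, hn, map_zero]⟩ ?_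
  have := congrArg ((φ i).toLinearMap.lTensor R') ha'
  simpa using this

omit [CommRing R] [CommRing R'] [Algebra R R'] in
/-- An element killed by a flat map vanishes near the image. -/
theorem exists_mul_eq_zero_of_flat {A B : Type u} [CommRing A] [CommRing B] [Algebra A B] [Module.Flat A B]
    (q : PrimeSpectrum B) {a : A} (ha : algebraMap A B a = 0) :
    ∃ s : A, s ∉ (PrimeSpectrum.comap (algebraMap A B) q).asIdeal ∧ s * a = 0 := by
  by_contra hno
  push Not at hno
  let J : Ideal A := LinearMap.ker (LinearMap.toSpanSingleton A A a)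
  have hJ : J.map (algebraMap A B) ≤ q.asIdeal := Ideal.map_le_iff_le_comap.2 fun s hs => by
    by_contra h
    exact hno s h (by simpa [J] using hs)
  let g : A ⧸ J →ₗ[A] A := J.liftQ (LinearMap.toSpanSingleton A A a) le_rfl
  have hg : Function.Injective g := by
    rw [← LinearMap.ker_eq_bot, Submodule.ker_liftQ_eq_bot]
    exact le_rfl
  have h1 : (1 : B) ⊗ₜ[A] (Submodule.Quotient.mk (1 : A) : A ⧸ J) = 0 := by
    apply Module.Flat.lTensor_preserves_injective_linearMap (M := B) g hg
    apply (TensorProduct.rid A B).injective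
    have e : g (1 : A ⧸ J) = a := by
      show LinearMap.toSpanSingleton A A a 1 = a
      simp
    simp [e, Algebra.smul_def, ha]
  let π : A ⧸ J →ₗ[A] B ⧸ J.map (algebraMap A B) :=
    J.liftQ (Algebra.linearMap A (B ⧸ J.map (algebraMap A B))) fun s hs => by
      rw [LinearMap.mem_ker, Algebra.linearMap_apply, IsScalarTower.algebraMap_apply A B (B ⧸ J.map (algebraMap A B))]
      exact Ideal.Quotient.eq_zero_iff_mem.2 (Ideal.mem_map_of_mem _ hs)
  have h2 := congrArg (TensorProduct.lift ((LinearMap.lsmul B (B ⧸ J.map (algebraMap A B))).restrictScalars₁₂ A A) ∘ₗ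
    π.lTensor B) h1
  have e : π (1 : A ⧸ J) = 1 := by
    show Algebra.linearMap A (B ⧸ J.map (algebraMap A B)) 1 = 1
    simp
  simp [e] at h2
  exact q.2.ne_top ((Ideal.eq_top_iff_one _).2 (hJ (Ideal.Quotient.eq_zero_iff_mem.1 h2)))

/-- Openness can be tested on the two members of a glueing pair. -/
theorem isOpen_glue {B P : Type u} [CommRing B] [CommRing P] [Algebra B P] {g : B}
    (h : EtGlue.IsGlueingPair B P g) (T : Set (PrimeSpectrum B))
    (h1 : IsOpen (PrimeSpectrum.comap (algebraMap B (Localization.Away g)) ⁻¹' T))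
    (h2 : IsOpen (PrimeSpectrum.comap (algebraMap B P) ⁻¹' T)) : IsOpen T := by
  classical
  -- the part of `T` in `D(g)` is open
  have hU : IsOpen (T ∩ (PrimeSpectrum.basicOpen g : Set (PrimeSpectrum B))) := by
    have he := PrimeSpectrum.localization_away_isOpenEmbedding (Localization.Away g) g
    have := he.isOpenMap _ h1
    rwa [Set.image_preimage_eq_inter_range, PrimeSpectrum.localization_away_comap_range (Localization.Away g) g]
      at this
  let Z₀ : Set (PrimeSpectrum B) := (PrimeSpectrum.basicOpen g : Set (PrimeSpectrum B)) \ T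
  let J : Ideal B := PrimeSpectrum.vanishingIdeal Z₀
  have hZ : ∀ q ∈ Z₀, J ≤ q.asIdeal := fun q hq a ha => (PrimeSpectrum.mem_vanishingIdeal _ _).1 ha q hq
  have hZ' : ∀ q : PrimeSpectrum B, g ∉ q.asIdeal → J ≤ q.asIdeal → q ∉ T := by
    intro q hg hJ hqT
    have hq : q ∈ closure Z₀ := by
      rw [← PrimeSpectrum.zeroLocus_vanishingIdeal_eq_closure]; exact hJ
    obtain ⟨q₀, hq₀, hq₀'⟩ := mem_closure_iff.1 hq _ hU ⟨hqT, hg⟩
    exact hq₀'.2 hq₀.1
  refine isOpen_iff_forall_mem_open.2 fun p hp => ?_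
  by_cases hgp : g ∈ p.asIdeal
  swap
  · exact ⟨_, Set.inter_subset_left, hU, hp, hgp⟩
  have hq1 : Function.Bijective (Ideal.quotientMap (Ideal.map (algebraMap B P) (Ideal.span {g})) (algebraMap B P)
      Ideal.le_comap_map) := by
    have key : ∀ g' : B, g' = g → Function.Bijective
        (Ideal.quotientMap (Ideal.map (algebraMap B P) (Ideal.span {g'})) (algebraMap B P) Ideal.le_comap_map) →
        Function.Bijective (Ideal.quotientMap (Ideal.map (algebraMap B P) (Ideal.span {g})) (algebraMap B P)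
          Ideal.le_comap_map) := by
      rintro g' rfl h'; exact h'
    exact key _ (pow_one g) (h.1 1 one_pos)
  have hlift : ∀ q : PrimeSpectrum B, g ∈ q.asIdeal → ∃ q', PrimeSpectrum.comap (algebraMap B P) q' = q := by
    intro q hq
    rcases jointly_surjective hq1 q with h | ⟨r, hr⟩
    · exact h
    · have : q ∈ (PrimeSpectrum.basicOpen g : Set (PrimeSpectrum B)) := by
        rw [← PrimeSpectrum.localization_away_comap_range (Localization.Away g) g]; exact ⟨r, hr⟩
      exact absurd hq this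
  obtain ⟨p', rfl⟩ := hlift p hgp
  obtain ⟨_, ⟨x, rfl⟩, hpx, hxT⟩ := PrimeSpectrum.isTopologicalBasis_basic_opens.exists_subset_of_mem_open
    (show p' ∈ PrimeSpectrum.comap (algebraMap B P) ⁻¹' T from hp) h2
  have hrad : x * algebraMap B P g ∈ (J.map (algebraMap B P)).radical := by
    rw [Ideal.radical_eq_sInf, Ideal.mem_sInf]
    rintro Q ⟨hJQ, hQ⟩
    by_cases hgQ : algebraMap B P g ∈ Q
    · exact Q.mul_mem_left _ hgQ
    refine Q.mul_mem_right _ ?_
    by_contra hxQ
    exact hZ' (PrimeSpectrum.comap (algebraMap B P) ⟨Q, hQ⟩) hgQ (fun a ha => hJQ (Ideal.mem_map_of_mem _ ha))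
      (hxT hxQ)
  obtain ⟨k₀, hk₀⟩ := hrad
  obtain ⟨k, hk0, hk⟩ : ∃ k : ℕ, 0 < k ∧ (x * algebraMap B P g) ^ k ∈ J.map (algebraMap B P) :=
    ⟨k₀ + 1, k₀.succ_pos, by rw [pow_succ]; exact Ideal.mul_mem_right _ _ hk₀⟩
  have hdec : ∀ z ∈ J.map (algebraMap B P), ∀ N : ℕ, ∃ a ∈ J, ∃ s : P,
      z = algebraMap B P a + algebraMap B P g ^ N * s := by
    intro z hz N
    induction hz using Submodule.span_induction with
    | mem z hz =>
      obtain ⟨a, ha, rfl⟩ := hz
      exact ⟨a, ha, 0, by simp⟩
    | zero => exact ⟨0, zero_mem _, 0, by simp⟩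
    | add y z _ _ hy hz =>
      obtain ⟨a, ha, s, rfl⟩ := hy
      obtain ⟨b, hb, t, rfl⟩ := hz
      exact ⟨a + b, add_mem ha hb, s + t, by rw [map_add]; ring⟩
    | smul c y _ hy =>
      obtain ⟨a, ha, s, rfl⟩ := hy
      obtain ⟨e, t, rfl⟩ := exists_sub_mem h.1 N c
      exact ⟨e * a, J.mul_mem_left _ ha, t * algebraMap B P a + algebraMap B P e * s + algebraMap B P g ^ N * (t * s),
        by rw [smul_eq_mul, map_mul]; ring⟩
  obtain ⟨a, haJ, s, hs⟩ := hdec _ hk (k + 1)
  obtain ⟨b, hb⟩ := mem_span_of_map h.1 k a ⟨x ^ k - algebraMap B P g * s, by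
    rw [mul_pow] at hs; linear_combination -hs⟩
  obtain ⟨t, ⟨n, ht⟩, ht'⟩ := (isGlueingPair_iff h.1).1 h |>.2
    (x ^ k - algebraMap B P g * s - algebraMap B P b) ⟨k, by
      have : algebraMap B P a = algebraMap B P g ^ k * algebraMap B P b := by rw [hb, map_mul, map_pow]
      rw [mul_pow] at hs
      linear_combination hs + this⟩
  have he : algebraMap B P (b + t) = x ^ k - algebraMap B P g * s := by rw [map_add, ht', add_sub_cancel]
  refine ⟨PrimeSpectrum.basicOpen (b + t), fun q hq => ?_, PrimeSpectrum.isOpen_basicOpen, ?_⟩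
  · by_cases hgq : g ∈ q.asIdeal
    · obtain ⟨q', rfl⟩ := hlift q hgq
      refine hxT fun hx => hq ?_
      show algebraMap B P (b + t) ∈ q'.asIdeal
      rw [he]
      refine q'.asIdeal.sub_mem ?_ (q'.asIdeal.mul_mem_right _ hgq)
      exact q'.asIdeal.pow_mem_of_mem hx k hk0
    · by_contra hqT
      have hbq : b ∈ q.asIdeal := by
        rcases q.2.mem_or_mem (hb ▸ hZ q ⟨hgq, hqT⟩ haJ) with h' | h'
        · exact absurd (q.2.mem_of_pow_mem _ h') hgq
        · exact h'
      have htq : t ∈ q.asIdeal := by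
        rcases q.2.mem_or_mem (ht.symm ▸ q.asIdeal.zero_mem) with h' | h'
        · exact absurd (q.2.mem_of_pow_mem _ h') hgq
        · exact h'
      exact hq (q.asIdeal.add_mem hbq htq)
  · intro hbt
    have h' : x ^ k - algebraMap B P g * s ∈ p'.asIdeal := he ▸ hbt
    have := p'.asIdeal.add_mem h' (p'.asIdeal.mul_mem_right s hgp)
    rw [sub_add_cancel] at this
    exact hpx (p'.2.mem_of_pow_mem _ this)

end Groth.Agent.EtGlue7
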